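import Cfsg.Agent.EqLemmas
import Cfsg.Agent.Lib.Blocks.OrbitSum

/-!
At most one central idempotent of defect zero in a group with a big cell.

For a field-valued class function `e` on `G` that vanishes at elements centralised by a non-identity
element of the `p`-subgroup `U`, the coset sums `g ↦ ∑ u, e (g * u)` live on the big cell
`U * μ t * U`. When the structure constants of the cell are one constant, this forces at most one
such idempotent.
-/

set_option autoImplicit false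

namespace Cfsg.Agent.SLBlocks

variable {G : Type*} [Group G] [Fintype G] {R : Type*} [CommRing R]

open scoped Classical in
/-- Summing over a group by left cosets. -/
theorem sum_cosets (U : Subgroup G) (a b : G → R) (ha : ∀ g, ∀ u ∈ U, a (g * u) = a g) :
    ∑ g, a g * b g = ∑ q : G ⧸ U, a q.out * ∑ u : U, b (q.out * u) := by
  simp only [Finset.mul_sum]
  rw [← Fintype.sum_prod_type']
  let φ : (G ⧸ U) × U ≃ G :=
    { toFun := fun x => x.1.out * (x.2 : G)
      invFun := fun g => ((g : G ⧸ U), ⟨(g : G ⧸ U).out⁻¹ * g,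
        QuotientGroup.eq.1 (QuotientGroup.out_eq' (g : G ⧸ U))⟩)
      left_inv := fun x => by
        have h : ((x.1.out * (x.2 : G) : G) : G ⧸ U) = x.1 := by
          conv_rhs => rw [← QuotientGroup.out_eq' x.1]
          exact QuotientGroup.eq.2 (by simp)
        refine Prod.ext h (Subtype.ext ?_)
        show ((x.1.out * (x.2 : G) : G) : G ⧸ U).out⁻¹ * (x.1.out * (x.2 : G)) = x.2
        rw [h, inv_mul_cancel_left]
      right_inv := fun g => mul_inv_cancel_left _ _ }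
  refine (Fintype.sum_equiv φ _ _ ?_).symm
  rintro ⟨q, u⟩
  show _ = a (q.out * (u : G)) * b (q.out * (u : G))
  rw [ha _ _ u.2]

/-- The coset sums. -/
noncomputable def cs (U : Subgroup G) (e : G → R) (g : G) : R :=
  have := Fintype.ofFinite U
  ∑ u : U, e (g * u)

theorem cs_eq (U : Subgroup G) [Fintype U] (e : G → R) (g : G) : cs U e g = ∑ u : U, e (g * u) := by
  unfold cs
  exact Finset.sum_congr (by ext; simp) fun _ _ => rfl

theorem cs_mul_right (U : Subgroup G) (e : G → R) (g : G) {u : G} (hu : u ∈ U) :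
    cs U e (g * u) = cs U e g := by
  classical
  rw [cs_eq, cs_eq]
  exact Fintype.sum_equiv (Equiv.mulLeft (⟨u, hu⟩ : U)) _ _ fun v => by simp [mul_assoc]

theorem cs_mul_left (U : Subgroup G) {e : G → R} (he : ∀ a x, e (a * x * a⁻¹) = e x) (g : G) {u : G}
    (hu : u ∈ U) : cs U e (u * g) = cs U e g := by
  classical
  rw [cs_eq, cs_eq]
  refine Fintype.sum_equiv (Equiv.mulRight (⟨u, hu⟩ : U)) _ _ fun v => ?_
  rw [Equiv.coe_mulRight, Subgroup.coe_mul]
  rw [← he u (g * ((v : G) * u))]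
  congr 1
  group

section charp

variable {p : ℕ} [Fact p.Prime] [CharP R p]

/-- The coset sum vanishes where `U ∩ g U g⁻¹` is non-trivial. -/
theorem cs_eq_zero (U : Subgroup G) (hU : IsPGroup p U) {e : G → R}
    (he : ∀ a x, e (a * x * a⁻¹) = e x)
    (hvan : ∀ x, ∀ v ∈ U, v ≠ 1 → v * x = x * v → e x = 0) {g v : G} (hv : v ∈ U) (hv1 : v ≠ 1)
    (hgv : g⁻¹ * v * g ∈ U) : cs U e g = 0 := by
  classical
  rw [cs_eq]
  set V := Subgroup.zpowers (⟨v, hv⟩ : U) with hV
  let c : U →* G := U.subtype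
  have hmem : ∀ w : V, g⁻¹ * ((w : U) : G) * g ∈ U := by
    rintro ⟨w, hw⟩
    obtain ⟨i, rfl⟩ := Subgroup.mem_zpowers_iff.1 hw
    show g⁻¹ * (((⟨v, hv⟩ : U) ^ i : U) : G) * g ∈ U
    have h : g⁻¹ * (((⟨v, hv⟩ : U) ^ i : U) : G) * g = (g⁻¹ * v * g) ^ i := by
      rw [Subgroup.coe_zpow]
      conv_rhs => rw [show g⁻¹ * v * g = g⁻¹ * v * g⁻¹⁻¹ by rw [inv_inv], conj_zpow, inv_inv]
    rw [h]
    exact U.zpow_mem hgv i
  letI : MulAction V U :=
    { smul := fun w u => ⟨g⁻¹ * ((w : U) : G) * g * u * ((w : U) : G)⁻¹,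
        U.mul_mem (U.mul_mem (hmem w) u.2) (U.inv_mem (w : U).2)⟩
      one_smul := fun u => Subtype.ext (by
        show g⁻¹ * (((1 : V) : U) : G) * g * u * (((1 : V) : U) : G)⁻¹ = u
        simp)
      mul_smul := fun a b u => Subtype.ext (by
        show g⁻¹ * (((a * b : V) : U) : G) * g * u * (((a * b : V) : U) : G)⁻¹ =
          g⁻¹ * ((a : U) : G) * g * (g⁻¹ * ((b : U) : G) * g * u * ((b : U) : G)⁻¹) * ((a : U) : G)⁻¹
        simp only [Subgroup.coe_mul]
        group) }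
  have hsmul : ∀ (w : V) (u : U), ((w • u : U) : G) =
      g⁻¹ * ((w : U) : G) * g * u * ((w : U) : G)⁻¹ := fun w u => rfl
  have hinv : ∀ (w : V) (u : U), e (g * ((w • u : U) : G)) = e (g * u) := by
    intro w u
    rw [hsmul, ← he ((w : U) : G) (g * u)]
    congr 1
    group
  have h := Blocks.sum_not_fixed_mem (hU.to_subgroup V) (fun u : U => e (g * u)) hinv ⊥ (fun a => by
    rw [AddSubmonoid.mem_bot, nsmul_eq_mul, CharP.cast_eq_zero, zero_mul])
  rw [AddSubmonoid.mem_bot] at h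
  rw [← Finset.sum_filter_add_sum_filter_not Finset.univ (fun u : U => u ∉ MulAction.fixedPoints V U),
    h, zero_add]
  refine Finset.sum_eq_zero fun u hu => hvan _ v hv hv1 ?_
  rw [Finset.mem_filter, not_not, MulAction.mem_fixedPoints] at hu
  have h1 := congrArg Subtype.val (hu.2 ⟨⟨v, hv⟩, Subgroup.mem_zpowers _⟩)
  rw [hsmul] at h1
  calc v * (g * u) = g * (g⁻¹ * v * g * u * v⁻¹) * v := by group
    _ = g * u * v := by rw [h1]

/-- A non-zero idempotent has a non-zero coset sum. -/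
theorem eq_zero_of_cs_eq_zero (U : Subgroup G) (hU : IsPGroup p U) {e : G → R}
    (he : ∀ a x, e (a * x * a⁻¹) = e x) (hidem : ∀ x, ∑ y, e y * e (y⁻¹ * x) = e x)
    (hf : ∀ g, cs U e g = 0) : e = 0 := by
  classical
  by_contra hne
  let Φ : (U → ZMod p) →+ (G → R) :=
    { toFun := fun c x => ∑ u : U, (ZMod.castHom dvd_rfl R (c u)) * e (x * u)
      map_zero' := by ext x; simp
      map_add' := fun c d => by
        ext x
        simp only [Pi.add_apply, map_add, add_mul, Finset.sum_add_distrib] }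
  let A := Φ.range
  have hshift : ∀ (u : U) (w : G → R), w ∈ A → (fun x => w (x * u)) ∈ A := by
    rintro u _ ⟨c, rfl⟩
    refine ⟨fun v => c (u⁻¹ * v), funext fun x => ?_⟩
    show ∑ v : U, ZMod.castHom dvd_rfl R (c (u⁻¹ * v)) * e (x * v) =
      ∑ v : U, ZMod.castHom dvd_rfl R (c v) * e (x * u * v)
    exact Fintype.sum_equiv (Equiv.mulLeft u⁻¹) _ _ fun v => by simp [mul_assoc]
  letI : MulAction U A :=
    { smul := fun u w => ⟨fun x => (w : G → R) (x * u), hshift u w w.2⟩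
      one_smul := fun w => Subtype.ext (funext fun x => by
        show (w : G → R) (x * ((1 : U) : G)) = _
        simp)
      mul_smul := fun a b w => Subtype.ext (funext fun x => by
        show (w : G → R) (x * ((a * b : U) : G)) = (w : G → R) (x * a * b)
        rw [Subgroup.coe_mul, mul_assoc]) }
  have hp := (Fact.out : p.Prime)
  have heA : e ∈ A := by
    refine ⟨fun u => if u = 1 then 1 else 0, funext fun x => ?_⟩
    show ∑ u : U, ZMod.castHom dvd_rfl R (if u = 1 then 1 else 0) * e (x * u) = e x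
    rw [Finset.sum_eq_single (1 : U)]
    · rw [if_pos rfl, map_one, one_mul, OneMemClass.coe_one, mul_one]
    · intro u _ hu; rw [if_neg hu, map_zero, zero_mul]
    · intro h; exact absurd (Finset.mem_univ _) h
  have hdvd : p ∣ Nat.card A := by
    have h1 : addOrderOf (⟨e, heA⟩ : A) = p := by
      refine addOrderOf_eq_prime (Subtype.ext (funext fun x => ?_)) fun h => hne (congrArg Subtype.val h)
      show (p • e) x = 0
      rw [Pi.smul_apply, nsmul_eq_mul, CharP.cast_eq_zero, zero_mul]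
    exact h1 ▸ addOrderOf_dvd_natCard _
  haveI : Finite A := by
    have : Finite (Set.range Φ) := Finite.Set.finite_range Φ
    exact this
  obtain ⟨⟨w, hw⟩, hwfix, hw0⟩ := hU.exists_fixed_point_of_prime_dvd_card_of_fixed_point A hdvd
    (a := (0 : A)) (fun u => Subtype.ext rfl)
  have hwu : ∀ x, ∀ u ∈ U, w (x * u) = w x := fun x u hu =>
    congrFun (congrArg Subtype.val (hwfix ⟨u, hu⟩)) x
  have hwe : ∀ x, ∑ y, e y * w (y⁻¹ * x) = w x := by
    obtain ⟨c, rfl⟩ := hw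
    intro x
    show ∑ y, e y * ∑ u : U, ZMod.castHom dvd_rfl R (c u) * e (y⁻¹ * x * u) =
      ∑ u : U, ZMod.castHom dvd_rfl R (c u) * e (x * u)
    simp only [Finset.mul_sum]
    rw [Finset.sum_comm]
    refine Finset.sum_congr rfl fun u _ => ?_
    rw [← hidem (x * u), Finset.mul_sum]
    refine Finset.sum_congr rfl fun y _ => ?_
    rw [mul_assoc y⁻¹ x, mul_left_comm]
  apply hw0
  refine Subtype.ext (funext fun x => ?_)
  show (0 : R) = w x
  rw [← hwe x, Fintype.sum_equiv ((Equiv.inv G).trans (Equiv.mulRight x)) (fun y => e y * w (y⁻¹ * x))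
    (fun z => w z * e (z⁻¹ * x)) ?_]
  · rw [sum_cosets U w _ hwu]
    refine (Finset.sum_eq_zero fun q _ => ?_).symm
    have h : ∑ u : U, e ((q.out * (u : G))⁻¹ * x) = cs U e (q.out⁻¹ * x) := by
      rw [cs_eq]
      refine Fintype.sum_equiv (Equiv.inv U) _ _ fun u => ?_
      rw [← he (u : G) ((q.out * (u : G))⁻¹ * x)]
      congr 1
      simp only [Equiv.inv_apply, InvMemClass.coe_inv]
      group
    rw [h, hf, mul_zero]
  · intro y
    show e y * w (y⁻¹ * x) = w (y⁻¹ * x) * e ((y⁻¹ * x)⁻¹ * x)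
    rw [mul_comm, ← he x⁻¹ y]
    congr 2
    group

/-- At most one idempotent. -/
theorem false_of_bigCell [IsDomain R] (U : Subgroup G) (hU : IsPGroup p U) {T : Type*} [Fintype T]
    (μ : T → G)
    (hout : ∀ g, (∀ t, ∀ u ∈ U, ∀ u' ∈ U, g ≠ u * μ t * u') → ∃ v ∈ U, v ≠ 1 ∧ g⁻¹ * v * g ∈ U)
    (hinj : ∀ t t', ∀ u ∈ U, ∀ u' ∈ U, ∀ w ∈ U, u * μ t * w = u' * μ t' → u = u' ∧ t = t')
    (c : R)
    (hcount : ∀ t₁ t₂ t, ((Nat.card {u : U // ∃ a ∈ U, ∃ b ∈ U,
      (μ t₁)⁻¹ * (u : G)⁻¹ * μ t = a * μ t₂ * b} : ℕ) : R) = c)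
    {e e' : G → R} (he : ∀ a x, e (a * x * a⁻¹) = e x) (he' : ∀ a x, e' (a * x * a⁻¹) = e' x)
    (hv : ∀ x, ∀ v ∈ U, v ≠ 1 → v * x = x * v → e x = 0)
    (hv' : ∀ x, ∀ v ∈ U, v ≠ 1 → v * x = x * v → e' x = 0)
    (hidem : ∀ x, ∑ y, e y * e (y⁻¹ * x) = e x) (hidem' : ∀ x, ∑ y, e' y * e' (y⁻¹ * x) = e' x)
    (horth : ∀ x, ∑ y, e y * e' (y⁻¹ * x) = 0) (h0 : e ≠ 0) (h0' : e' ≠ 0) : False := by
  classical
  have hconv : ∀ {a b : G → R}, (∀ y x, a (y * x * y⁻¹) = a x) → (∀ y x, b (y * x * y⁻¹) = b x) →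
      (∀ x, ∀ v ∈ U, v ≠ 1 → v * x = x * v → a x = 0) →
      (∀ x, ∀ v ∈ U, v ≠ 1 → v * x = x * v → b x = 0) →
      ∀ t, cs U (fun x => ∑ y, a y * b (y⁻¹ * x)) (μ t) =
        c * (∑ t₁, cs U a (μ t₁)) * ∑ t₂, cs U b (μ t₂) := by
    intro a b ha hb hav hbv t
    have h1 : cs U (fun x => ∑ y, a y * b (y⁻¹ * x)) (μ t) = ∑ y, cs U b (y⁻¹ * μ t) * a y := by
      rw [cs_eq, Finset.sum_comm]
      refine Finset.sum_congr rfl fun y _ => ?_
      rw [cs_eq, Finset.sum_mul]
      refine Finset.sum_congr rfl fun u _ => ?_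
      rw [mul_assoc y⁻¹, mul_comm]
    rw [h1, sum_cosets U (fun y => cs U b (y⁻¹ * μ t)) a (fun y u hu => by
      rw [mul_inv_rev, mul_assoc, cs_mul_left U hb _ (U.inv_mem hu)])]
    let ι : T × U → G ⧸ U := fun x => ((x.2 : G) * μ x.1 : G)
    have hι : Function.Injective ι := by
      rintro ⟨t₁, u₁⟩ ⟨t₂, u₂⟩ h
      have h' := QuotientGroup.eq.1 h
      obtain ⟨h2, h3⟩ := hinj t₁ t₂ u₁ u₁.2 u₂ u₂.2 _ h' (by group)
      exact Prod.ext h3 (Subtype.ext h2)
    rw [← Fintype.sum_of_injective ι hι (fun x : T × U =>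
      cs U b ((μ x.1)⁻¹ * (x.2 : G)⁻¹ * μ t) * cs U a (μ x.1))]
    · rw [Fintype.sum_prod_type]
      have hcell : ∀ t₁ : T, ∀ u : U, cs U b ((μ t₁)⁻¹ * (u : G)⁻¹ * μ t) = ∑ t₂,
          (if ∃ a ∈ U, ∃ b ∈ U, (μ t₁)⁻¹ * (u : G)⁻¹ * μ t = a * μ t₂ * b then cs U b (μ t₂)
            else 0) := by
        intro t₁ u
        by_cases hg : ∃ t₂, ∃ x ∈ U, ∃ z ∈ U, (μ t₁)⁻¹ * (u : G)⁻¹ * μ t = x * μ t₂ * z
        · obtain ⟨t₂, x, hx, z, hz, hxz⟩ := hg
          rw [Finset.sum_eq_single t₂, if_pos ⟨x, hx, z, hz, hxz⟩, hxz, cs_mul_right U b _ hz,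
            cs_mul_left U hb _ hx]
          · intro t₃ _ hne
            rw [if_neg]
            rintro ⟨x', hx', z', hz', h'⟩
            refine hne (hinj t₂ t₃ x hx x' hx' (z * z'⁻¹) (U.mul_mem hz (U.inv_mem hz')) ?_).2.symm
            rw [← mul_assoc, ← hxz, h', mul_inv_cancel_right]
          · intro h; exact absurd (Finset.mem_univ _) h
        · push Not at hg
          rw [Finset.sum_eq_zero fun t₂ _ => if_neg (by
            rintro ⟨x, hx, z, hz, h⟩; exact hg t₂ x hx z hz h)]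
          obtain ⟨v, hvU, hv1, hgv⟩ := hout _ fun t₂ x hx z hz => hg t₂ x hx z hz
          exact cs_eq_zero U hU hb hbv hvU hv1 hgv
      rw [mul_assoc, Finset.sum_mul, Finset.mul_sum]
      refine Finset.sum_congr rfl fun t₁ _ => ?_
      dsimp only
      rw [← Finset.sum_mul, mul_left_comm, mul_comm _ (cs U a (μ t₁)), Finset.sum_congr rfl fun u _ => hcell t₁ u,
        Finset.sum_comm, Finset.mul_sum Finset.univ _ c]
      congr 1
      refine Finset.sum_congr rfl fun t₂ _ => ?_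
      rw [← Finset.sum_filter, Finset.sum_const, nsmul_eq_mul, ← hcount t₁ t₂ t,
        Nat.card_eq_fintype_card, Fintype.card_subtype]
    · intro q hq
      obtain ⟨v, hvU, hv1, hgv⟩ := hout q.out fun t₁ x hx z hz h => hq ⟨(t₁, ⟨x, hx⟩), by
        rw [← QuotientGroup.out_eq' q, h]
        exact QuotientGroup.eq.2 (by simpa [mul_assoc] using hz)⟩
      rw [← cs_eq, cs_eq_zero U hU ha hav hvU hv1 hgv, mul_zero]
    · rintro ⟨t₁, u⟩
      obtain ⟨z, hz⟩ := QuotientGroup.mk_out_eq_mul U ((u : G) * μ t₁)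
      show _ = cs U b ((((u : G) * μ t₁ : G) : G ⧸ U).out⁻¹ * μ t) * _
      rw [← cs_eq, hz, cs_mul_right U a _ z.2, cs_mul_left U ha _ u.2, mul_inv_rev, mul_inv_rev,
        mul_assoc (z : G)⁻¹, cs_mul_left U hb _ (U.inv_mem z.2)]
  have hzero : ∀ {a : G → R}, (∀ y x, a (y * x * y⁻¹) = a x) →
      (∀ x, ∀ v ∈ U, v ≠ 1 → v * x = x * v → a x = 0) → (∀ x, ∑ y, a y * a (y⁻¹ * x) = a x) →
      a ≠ 0 → c ≠ 0 ∧ ∑ t, cs U a (μ t) ≠ 0 := by
    intro a ha hav hai ha0
    by_contra hcon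
    apply ha0
    refine eq_zero_of_cs_eq_zero U hU ha hai fun g => ?_
    by_cases hg : ∃ t, ∃ x ∈ U, ∃ z ∈ U, g = x * μ t * z
    · obtain ⟨t, x, hx, z, hz, rfl⟩ := hg
      rw [cs_mul_right U a _ hz, cs_mul_left U ha _ hx]
      have h := hconv ha ha hav hav t
      rw [funext hai] at h
      rw [h]
      rcases not_and_or.1 hcon with h1 | h1
      · rw [not_not.1 h1, zero_mul, zero_mul]
      · rw [not_not.1 h1, mul_zero]
    · push Not at hg
      obtain ⟨v, hvU, hv1, hgv⟩ := hout g fun t x hx z hz => hg t x hx z hz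
      exact cs_eq_zero U hU ha hav hvU hv1 hgv
  obtain ⟨hc, hs⟩ := hzero he hv hidem h0
  obtain ⟨-, hs'⟩ := hzero he' hv' hidem' h0'
  have hT : Nonempty T := by
    by_contra hT
    rw [not_nonempty_iff] at hT
    exact hs (Finset.sum_eq_zero fun t _ => isEmptyElim t)
  have h := hconv he he' hv hv' hT.some
  rw [show (fun x => ∑ y, e y * e' (y⁻¹ * x)) = fun _ => (0 : R) from funext horth] at h
  rw [cs_eq, Finset.sum_const_zero] at h
  exact mul_ne_zero (mul_ne_zero hc hs) hs' h.symm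

end charp

end Cfsg.Agent.SLBlocks
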