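import Cfsg.Agent.Lib.SLBlocks.Cell
import Cfsg.Agent.Lib.SLRGD.Steinberg

/-!
`p`-subgroups of `SL (m+1, F)` in characteristic `p` and their fixed-point flags.

`exists_flagGroup` : a non-trivial `p`-subgroup `D` lies in a `p`-subgroup `P` which is normalised by
the normaliser of `D` and such that the `p`-regular elements centralising `P` are central.
-/

set_option autoImplicit false

namespace Cfsg.Agent.SLBlocks

open Matrix SLRGD

variable {F : Type*} [Field F] {m : ℕ}

local notation "Γ" => Matrix.SpecialLinearGroup (Fin (m + 1)) F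
local notation "Mat" => Matrix (Fin (m + 1)) (Fin (m + 1)) F
local notation "Vec" => (Fin (m + 1) → F)

/-- The flag of `D`: iterated fixed spaces. -/
def flagOf (D : Subgroup Γ) : ℕ → Submodule F Vec
  | 0 => ⊥
  | i + 1 => ⨅ d : D, (flagOf D i).comap ((((d : Γ) : Mat) - 1).mulVecLin)

theorem mem_flagOf_succ {D : Subgroup Γ} {i : ℕ} {v : Vec} :
    v ∈ flagOf D (i + 1) ↔ ∀ d ∈ D, ((d : Γ) : Mat) *ᵥ v - v ∈ flagOf D i := by
  simp only [flagOf, Submodule.mem_iInf, Submodule.mem_comap, mulVecLin_apply, sub_mulVec, one_mulVec,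
    Subtype.forall]

theorem flagOf_le_succ (D : Subgroup Γ) (i : ℕ) : flagOf D i ≤ flagOf D (i + 1) := by
  induction i with
  | zero => exact bot_le
  | succ i ih => exact fun v hv => mem_flagOf_succ.2 fun d hd => ih (mem_flagOf_succ.1 hv d hd)

theorem flagOf_mono (D : Subgroup Γ) {i j : ℕ} (h : i ≤ j) : flagOf D i ≤ flagOf D j := by
  induction h with
  | refl => exact le_rfl
  | step _ ih => exact ih.trans (flagOf_le_succ D _)

theorem flag_contains {D : Subgroup Γ} {g : Γ} (hD : ∀ d ∈ D, g⁻¹ * d * g ∈ UU F m) :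
    ∀ (i : ℕ) (v : Vec), (∀ j : Fin (m + 1), i ≤ j.val → v j = 0) → (g : Mat) *ᵥ v ∈ flagOf D i := by
  intro i
  induction i with
  | zero =>
    intro v hv
    rw [show v = 0 from funext fun j => hv j (Nat.zero_le _), mulVec_zero]
    exact Submodule.zero_mem _
  | succ i ih =>
    intro v hv
    refine mem_flagOf_succ.2 fun d hd => ?_
    have hu := isUni_of_mem (hD d hd)
    set u : Γ := g⁻¹ * d * g with hu'
    have h1 : (d : Mat) *ᵥ ((g : Mat) *ᵥ v) - (g : Mat) *ᵥ v = (g : Mat) *ᵥ ((u : Mat) *ᵥ v - v) := by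
      rw [mulVec_sub, mulVec_mulVec, mulVec_mulVec, ← Matrix.SpecialLinearGroup.coe_mul,
        ← Matrix.SpecialLinearGroup.coe_mul, show g * u = d * g by rw [hu']; group]
    rw [h1]
    refine ih _ fun j hj => ?_
    rw [Pi.sub_apply, mulVec, dotProduct, Finset.sum_eq_single j, hu.2, one_mul, sub_self]
    · intro l _ hl
      rcases lt_or_gt_of_ne hl with hlt | hlt
      · rw [hu.1 j l hlt, zero_mul]
      · rw [hv l (by have := Fin.lt_def.1 hlt; omega), mul_zero]
    · intro h; exact absurd (Finset.mem_univ _) h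

variable [Finite F] (p : ℕ) [Fact p.Prime] [CharP F p]

include p in
theorem UU_eq_Upos : UU F m = RGD.RootData.Upos (slRGD F m) := by
  refine le_antisymm ?_ (Upos_le_unitri F m)
  obtain ⟨h1, h2⟩ := sylow_index F m (p := p)
  exact ((h1.toSylow h2).is_maximal' (isPGroup_unitri F m (p := p)) (Upos_le_unitri F m)).le

include p in
theorem UU_isSylow : IsPGroup p (UU F m) ∧ ¬ p ∣ (UU F m).index := by
  rw [UU_eq_Upos (m := m) (F := F) p]
  exact sylow_index F m

theorem exists_flagGroup (D : Subgroup Γ) (hD : IsPGroup p D) (hD1 : D ≠ ⊥) :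
    ∃ P : Subgroup Γ, D ≤ P ∧ IsPGroup p P ∧
      (∀ n ∈ Subgroup.normalizer (D : Set Γ), ∀ v ∈ P, n * v * n⁻¹ ∈ P) ∧
      ∀ x : Γ, ¬ p ∣ orderOf x → (∀ v ∈ P, x * v = v * x) → x ∈ Subgroup.center Γ := by
  classical
  have hp := (Fact.out : p.Prime)
  obtain ⟨hU, hUi⟩ := UU_isSylow (F := F) (m := m) p
  obtain ⟨S, hS⟩ := hD.exists_le_sylow
  obtain ⟨g, rfl⟩ := MulAction.exists_smul_eq Γ (hU.toSylow hUi) S
  have hDU : ∀ d ∈ D, g⁻¹ * d * g ∈ UU F m := by
    intro d hd
    have h := hS hd
    rw [Sylow.coe_subgroup_smul] at h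
    obtain ⟨u, hu, hud⟩ := h
    rw [MulDistribMulAction.toMonoidEnd_apply, MulDistribMulAction.toMonoidHom_apply,
      MulAut.smul_def, MulAut.conj_apply] at hud
    rw [← hud, show g⁻¹ * (g * u * g⁻¹) * g = u by group]
    exact hu
  have hinvg : ∀ v : Vec, (g : Mat) *ᵥ (((g⁻¹ : Γ) : Mat) *ᵥ v) = v := fun v => by
    rw [mulVec_mulVec, ← Matrix.SpecialLinearGroup.coe_mul, mul_inv_cancel,
      Matrix.SpecialLinearGroup.coe_one, one_mulVec]
  set E := flagOf D with hE
  have htop : E (m + 1) = ⊤ := by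
    refine Submodule.eq_top_iff'.2 fun v => ?_
    rw [← hinvg v]
    exact flag_contains hDU (m + 1) _ fun j hj => absurd j.isLt (not_lt.2 hj)
  let S0 : Submonoid Γ :=
    { carrier := {v : Γ | ∀ i, ∀ w ∈ E (i + 1), (v : Mat) *ᵥ w - w ∈ E i}
      one_mem' := fun i w _ => by
        rw [Matrix.SpecialLinearGroup.coe_one, one_mulVec, sub_self]; exact Submodule.zero_mem _
      mul_mem' := fun {a b} ha hb i w hw => by
        have hinv : ∀ i, ∀ z ∈ E i, (a : Mat) *ᵥ z ∈ E i := by
          intro i z hz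
          cases i with
          | zero =>
            have hz' : z = 0 := by simpa [hE, flagOf] using hz
            rw [hz', mulVec_zero]; exact Submodule.zero_mem _
          | succ i =>
            have h := Submodule.add_mem _ (flagOf_le_succ D i (ha i z hz)) hz
            rwa [sub_add_cancel] at h
        rw [Matrix.SpecialLinearGroup.coe_mul, ← mulVec_mulVec,
          show (a : Mat) *ᵥ ((b : Mat) *ᵥ w) - w =
            (a : Mat) *ᵥ ((b : Mat) *ᵥ w - w) + ((a : Mat) *ᵥ w - w) by rw [mulVec_sub]; abel]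
        exact Submodule.add_mem _ (hinv i _ (hb i w hw)) (ha i w hw) }
  let P : Subgroup Γ :=
    { S0 with
      inv_mem' := fun {u} hu => by
        rw [show u⁻¹ = u ^ (orderOf u - 1) from inv_eq_of_mul_eq_one_right (by
          rw [← pow_succ', Nat.sub_add_cancel (orderOf_pos _), pow_orderOf_eq_one])]
        exact S0.pow_mem hu _ }
  refine ⟨P, fun d hd i w hw => mem_flagOf_succ.1 hw d hd, ?_, ?_, ?_⟩
  · -- a `p`-group
    rintro ⟨v, hv⟩
    refine ⟨m + 1, Subtype.ext ?_⟩
    rw [Subgroup.coe_pow, Subgroup.coe_one]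
    refine Subtype.ext ?_
    rw [Matrix.SpecialLinearGroup.coe_pow, Matrix.SpecialLinearGroup.coe_one]
    have hnil : ∀ i, ∀ w ∈ E i, (((v : Mat) - 1) ^ i) *ᵥ w = 0 := by
      intro i
      induction i with
      | zero =>
        intro w hw
        have hw' : w = 0 := by simpa [hE, flagOf] using hw
        rw [hw', mulVec_zero]
      | succ i ih =>
        intro w hw
        rw [pow_succ, ← mulVec_mulVec]
        exact ih _ (by rw [sub_mulVec, one_mulVec]; exact hv i w hw)
    have h0 : ((v : Mat) - 1) ^ (m + 1) = 0 := Matrix.ext_of_mulVec_single fun j => by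
      rw [hnil (m + 1) _ (htop ▸ Submodule.mem_top), zero_mulVec]
    have hle : m + 1 ≤ p ^ (m + 1) := (Nat.lt_pow_self hp.one_lt).le
    have h1 : ((v : Mat) - 1) ^ p ^ (m + 1) = 0 := by
      rw [← Nat.sub_add_cancel hle, pow_add, h0, mul_zero]
    rw [sub_pow_char_pow_of_commute (p := p) (h := Commute.one_right (v : Mat)), one_pow, sub_eq_zero] at h1
    exact h1
  · -- normalised
    intro n hn v hv
    have hfix : ∀ k : Γ, k ∈ Subgroup.normalizer (D : Set Γ) → ∀ i, ∀ w ∈ E i, (k : Mat) *ᵥ w ∈ E i := by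
      intro k hk i
      induction i with
      | zero =>
        intro w hw
        have hw' : w = 0 := by simpa [hE, flagOf] using hw
        rw [hw', mulVec_zero]; exact Submodule.zero_mem _
      | succ i ih =>
        intro w hw
        refine mem_flagOf_succ.2 fun d hd => ?_
        have hd' : k⁻¹ * d * k ∈ D := by
          have := (Subgroup.mem_normalizer_iff.1 (inv_mem hk) d).1 hd
          simpa using this
        have h1 := ih _ (mem_flagOf_succ.1 hw _ hd')
        rwa [mulVec_sub, mulVec_mulVec, ← Matrix.SpecialLinearGroup.coe_mul,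
          show k * (k⁻¹ * d * k) = d * k by group, Matrix.SpecialLinearGroup.coe_mul, ← mulVec_mulVec] at h1
    intro i w hw
    have hw' := hfix n⁻¹ (inv_mem hn) (i + 1) w hw
    have h1 := hfix n hn i _ (hv i _ hw')
    rw [mulVec_sub, mulVec_mulVec, mulVec_mulVec, mulVec_mulVec, ← Matrix.SpecialLinearGroup.coe_mul,
      ← Matrix.SpecialLinearGroup.coe_mul, ← Matrix.SpecialLinearGroup.coe_mul, mul_inv_cancel,
      Matrix.SpecialLinearGroup.coe_one, one_mulVec] at h1
    exact h1
  · -- centraliser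
    intro x hx hcomm
    obtain ⟨d0, hd0, hd01⟩ := D.bot_or_exists_ne_one.resolve_left hD1
    have hE1 : E 1 ≠ ⊤ := by
      intro h
      apply hd01
      refine Subtype.ext (Matrix.ext_of_mulVec_single fun j => ?_)
      have h1 : (d0 : Mat) *ᵥ Pi.single j 1 - Pi.single j 1 ∈ E 0 :=
        mem_flagOf_succ.1 (show Pi.single j (1 : F) ∈ E 1 by rw [h]; exact Submodule.mem_top) d0 hd0
      rw [Matrix.SpecialLinearGroup.coe_one, one_mulVec]
      exact sub_eq_zero.1 (by simpa [hE, flagOf] using h1)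
    obtain ⟨w0, hw0, hw01⟩ : ∃ w ∈ E 1, w ≠ 0 := by
      refine ⟨(g : Mat) *ᵥ Pi.single 0 1, flag_contains hDU 1 _ fun j hj => ?_, fun h => ?_⟩
      · exact Pi.single_eq_of_ne (fun e => by rw [e, Fin.val_zero] at hj; omega) _
      · have := eq_zero_of_mulVec_eq_zero (by rw [g.2]; exact one_ne_zero) h
        exact one_ne_zero (by simpa using congrFun this 0 : (1 : F) = 0)
    -- rank one elements of `P`
    have hrank : ∀ w ∈ E 1, ∀ ff : Vec, (∀ v ∈ E 1, ff ⬝ᵥ v = 0) →
        vecMulVec ((x : Mat) *ᵥ w) ff = vecMulVec w (ff ᵥ* (x : Mat)) := by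
      intro w hw ff hff
      have hdet : ((1 : Mat) + vecMulVec w ff).det = 1 := by
        rw [vecMulVec_eq Unit, det_one_add_replicateCol_mul_replicateRow, hff w hw, add_zero]
      have hP : (⟨1 + vecMulVec w ff, hdet⟩ : Γ) ∈ P := by
        intro i v hv
        show ((1 : Mat) + vecMulVec w ff) *ᵥ v - v ∈ E i
        rw [add_mulVec, one_mulVec, add_sub_cancel_left, vecMulVec_mulVec]
        cases i with
        | zero => rw [hff v hv, MulOpposite.op_zero, zero_smul]; exact Submodule.zero_mem _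
        | succ i =>
          rw [op_smul_eq_smul]
          exact Submodule.smul_mem _ _ (flagOf_mono D (Nat.succ_le_succ (Nat.zero_le i)) hw)
      have h : (x : Mat) * (1 + vecMulVec w ff) = (1 + vecMulVec w ff) * (x : Mat) :=
        congrArg Subtype.val (hcomm _ hP)
      rw [mul_add, add_mul, mul_one, one_mul, add_right_inj] at h
      rwa [mul_vecMulVec, vecMulVec_mul] at h
    obtain ⟨v0, hv0⟩ : ∃ v, v ∉ E 1 := by
      by_contra h
      push Not at h
      exact hE1 (Submodule.eq_top_iff'.2 h)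
    have hann : ∀ v, v ∉ E 1 → ∃ ff : Vec, ff ⬝ᵥ v ≠ 0 ∧ ∀ u ∈ E 1, ff ⬝ᵥ u = 0 := by
      intro v hv
      obtain ⟨f, hfv, hfE⟩ := Submodule.exists_dual_map_eq_bot_of_notMem hv inferInstance
      have hdot : ∀ u : Vec, (fun i => f (Pi.single i 1)) ⬝ᵥ u = f u := by
        intro u
        conv_rhs => rw [pi_eq_sum_univ u]
        rw [map_sum, dotProduct]
        refine Finset.sum_congr rfl fun i _ => ?_
        rw [map_smul, smul_eq_mul, mul_comm]
        congr 2
        funext j
        simp [Pi.single_apply, eq_comm]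
      refine ⟨fun i => f (Pi.single i 1), by rwa [hdot], fun u hu => ?_⟩
      rw [hdot, ← Submodule.mem_bot (R := F), ← hfE]
      exact Submodule.mem_map_of_mem hu
    obtain ⟨ff0, hff0v, hff0⟩ := hann v0 hv0
    obtain ⟨j, hj⟩ : ∃ j, ff0 j ≠ 0 := by
      by_contra h
      push Not at h
      exact hff0v (by rw [show ff0 = 0 from funext h, zero_dotProduct])
    set c := (ff0 ᵥ* (x : Mat)) j / ff0 j with hc
    have hxw : ∀ w ∈ E 1, (x : Mat) *ᵥ w = c • w := by
      intro w hw
      funext i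
      have h := congrFun (congrFun (hrank w hw ff0 hff0) i) j
      rw [vecMulVec_apply, vecMulVec_apply] at h
      rw [Pi.smul_apply, smul_eq_mul, hc, div_mul_eq_mul_div, eq_div_iff hj, h, mul_comm]
    have hffx : ∀ ff : Vec, (∀ v ∈ E 1, ff ⬝ᵥ v = 0) → ff ᵥ* (x : Mat) = c • ff := by
      intro ff hff
      obtain ⟨i, hi⟩ := Function.ne_iff.1 hw01
      funext l
      have h := congrFun (congrFun (hrank w0 hw0 ff hff) i) l
      rw [vecMulVec_apply, vecMulVec_apply, hxw w0 hw0, Pi.smul_apply, smul_eq_mul] at h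
      rw [Pi.smul_apply, smul_eq_mul]
      refine mul_left_cancel₀ hi ?_
      rw [← h]; ring
    have hmem : ∀ v : Vec, (x : Mat) *ᵥ v - c • v ∈ E 1 := by
      intro v
      by_contra hv
      obtain ⟨ff, hffv, hff⟩ := hann _ hv
      apply hffv
      rw [dotProduct_sub, dotProduct_mulVec, hffx ff hff, smul_dotProduct, dotProduct_smul, sub_self]
    set T : Mat := (x : Mat) - scalar (Fin (m + 1)) c with hT
    have hTv : ∀ v : Vec, T *ᵥ v = (x : Mat) *ᵥ v - c • v := by
      intro v
      rw [hT, sub_mulVec]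
      congr 1
      funext i
      simp [mulVec_diagonal]
    have hT2 : T * T = 0 := Matrix.ext_of_mulVec_single fun j => by
      rw [← mulVec_mulVec, zero_mulVec, hTv (T *ᵥ _), hTv, hxw _ (hmem _), sub_self]
    have hcom : Commute (x : Mat) (scalar (Fin (m + 1)) c) := (scalar_commute c (Commute.all c) _).symm
    have hTp : T ^ p = 0 := by
      rw [← Nat.sub_add_cancel hp.two_le, pow_add, pow_two, hT2, mul_zero]
    rw [hT, sub_pow_char_of_commute (p := p) (h := hcom), sub_eq_zero, ← map_pow] at hTp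
    have hcop : p.Coprime (orderOf x) := hp.coprime_iff_not_dvd.2 hx
    obtain ⟨l, hl⟩ := exists_pow_eq_self_of_coprime hcop
    refine Subgroup.mem_center_iff.2 fun y => Subtype.ext ?_
    have hxs : (x : Mat) = scalar (Fin (m + 1)) ((c ^ p) ^ l) := by
      rw [map_pow (scalar (Fin (m + 1))) (c ^ p) l, ← hTp, ← Matrix.SpecialLinearGroup.coe_pow,
        ← Matrix.SpecialLinearGroup.coe_pow, hl]
    rw [Matrix.SpecialLinearGroup.coe_mul, Matrix.SpecialLinearGroup.coe_mul, hxs]
    exact ((scalar_commute _ (Commute.all _) _).eq).symm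

end Cfsg.Agent.SLBlocks
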