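import Cfsg.Agent.Lib.SLBlocks.Abstract
import Cfsg.Agent.Lib.SLBlocks.Radical
import Cfsg.Agent.Lib.Blocks.Defect
import Cfsg.Agent.Lib.Blocks.Induced
import Cfsg.Agent.Lib.BlockDefect.RegInner
import Cfsg.Agent.Lib.BlocksNormal.SylowIntersection
import Cfsg.Agent.Lib.BrauerPairs.Residue
import Cfsg.Agent.Lib.ModRep.Basic

/-!
Blocks of `SL (m+1, F)`, `F` finite of characteristic `p`.

* `central_of_full` : a `p`-regular element centralising a Sylow `p`-subgroup is central;
* `defect_dichotomy` : every block has defect zero or full defect;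
* `card_defect_zero` : exactly one block has defect zero.
-/

set_option autoImplicit false

namespace Cfsg.Agent.SLBlocks

open Cfsg Matrix SLRGD Blocks BrauerPairs

variable {F : Type*} [Field F] [Fintype F] {m : ℕ} {p : ℕ} [Fact p.Prime] [CharP F p]

local notation "Γ" => Matrix.SpecialLinearGroup (Fin (m + 1)) F

theorem card_UU : Nat.card (UU F m) = p ^ (Nat.card Γ).factorization p := by
  obtain ⟨h1, h2⟩ := UU_isSylow (F := F) (m := m) p
  exact Sylow.card_eq_multiplicity (h1.toSylow h2)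

theorem UU_ne_bot (hm : 1 ≤ m) : UU F m ≠ ⊥ := by
  intro h
  have h0 : (0 : Fin (m + 1)) < Fin.last m := by
    rw [Fin.lt_def, Fin.val_zero, Fin.val_last]
    omega
  have hmem := x_mem_unitri F m Function.injective_id h0.ne h0 (1 : F)
  have h1 : x F m h0.ne (1 : F) = 1 := (Subgroup.mem_bot).1 (h ▸ hmem)
  have h2 := congrFun (congrFun (congrArg Subtype.val h1) 0) (Fin.last m)
  rw [x_coe, Matrix.SpecialLinearGroup.coe_one, Matrix.one_apply_ne h0.ne, Matrix.transvection] at h2
  simp [Matrix.one_apply_ne h0.ne] at h2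

/-- A `p`-subgroup which is the largest normal `p`-subgroup of its normaliser and is centralised by a
`p`-regular element makes that element central. -/
theorem central_of_radical {D : Subgroup Γ} (hD : IsPGroup p D) (hD1 : D ≠ ⊥)
    (hrad : ∀ Q : Subgroup (Subgroup.normalizer (D : Set Γ)), Q.Normal → IsPGroup p Q →
      Q ≤ D.subgroupOf (Subgroup.normalizer (D : Set Γ)))
    {x : Γ} (hx : ¬ p ∣ orderOf x) (hxD : x ∈ Subgroup.centralizer (D : Set Γ)) :
    x ∈ Subgroup.center Γ := by
  obtain ⟨P, hDP, hP, hnorm, hcent⟩ := exists_flagGroup p D hD hD1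
  set N := Subgroup.normalizer (D : Set Γ) with hN
  have hPN : P ⊓ N ≤ D := by
    have hn : (P.subgroupOf N).Normal := ⟨fun v hv n => Subgroup.mem_subgroupOf.2 (by
      rw [Subgroup.coe_mul, Subgroup.coe_mul, Subgroup.coe_inv]
      exact hnorm n n.2 v (Subgroup.mem_subgroupOf.1 hv))⟩
    have hle := hrad _ hn (hP.comap_subtype)
    rintro v ⟨hvP, hvN⟩
    exact Subgroup.mem_subgroupOf.1 (hle (show (⟨v, hvN⟩ : N) ∈ P.subgroupOf N from hvP))
  have hPD : P = D := by
    refine le_antisymm ?_ hDP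
    haveI : Group.IsNilpotent P := hP.isNilpotent
    by_contra hne
    have hlt : D.subgroupOf P < ⊤ := lt_top_iff_ne_top.2 fun e => hne (Subgroup.subgroupOf_eq_top.1 e)
    obtain ⟨v, hv, hv'⟩ := SetLike.exists_of_lt (Group.normalizerCondition_of_isNilpotent (G := P) _ hlt)
    refine hv' (Subgroup.mem_subgroupOf.2 (hPN ⟨v.2, ?_⟩))
    show (v : Γ) ∈ Subgroup.normalizer (D : Set Γ)
    rw [Subgroup.mem_normalizer_iff]
    intro d
    constructor
    · intro hd
      have := (Subgroup.mem_normalizer_iff.1 hv ⟨d, hDP hd⟩).1 (Subgroup.mem_subgroupOf.2 hd)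
      simpa [Subgroup.mem_subgroupOf] using this
    · intro hd
      have hdP : d ∈ P := by
        have h1 := P.mul_mem (P.mul_mem (P.inv_mem v.2) (hDP hd)) v.2
        simpa [mul_assoc] using h1
      exact (Subgroup.mem_subgroupOf (K := P) (h := (⟨d, hdP⟩ : P))).1
        ((Subgroup.mem_normalizer_iff.1 hv ⟨d, hdP⟩).2 (Subgroup.mem_subgroupOf.2 (by simpa using hd)))
  exact hcent x hx fun v hv => (Subgroup.mem_centralizer_iff.1 hxD v (hPD ▸ hv)).symm

/-- A `p`-regular element centralising a Sylow `p`-subgroup is central. -/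
theorem central_of_full (hm : 1 ≤ m) {x : Γ} (hx : ¬ p ∣ orderOf x)
    (hfull : (Nat.card Γ).factorization p ≤
      (Nat.card (Subgroup.centralizer ({x} : Set Γ))).factorization p) :
    x ∈ Subgroup.center Γ := by
  obtain ⟨Q, hQ⟩ := sylowIn_exists p (Subgroup.centralizer ({x} : Set Γ))
  have hQc := sylowIn_card hQ
  have hle : (Nat.card Γ).factorization p = (Nat.card (Subgroup.centralizer ({x} : Set Γ))).factorization p :=
    le_antisymm hfull (Nat.factorization_le_iff_dvd Nat.card_pos.ne' Nat.card_pos.ne' |>.2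
      (Subgroup.card_subgroup_dvd_card _) p)
  rw [← hle] at hQc
  have hQp := sylowIn_isPGroup hQ
  have hQ1 : Q ≠ ⊥ := by
    intro e
    rw [e, Subgroup.card_bot] at hQc
    refine UU_ne_bot (F := F) hm (Subgroup.card_eq_one.1 ?_)
    rw [card_UU (p := p), ← hQc]
  refine central_of_radical hQp hQ1 (fun R hR hRp => ?_) hx ?_
  · intro r hr
    haveI := hR
    haveI : (Q.subgroupOf (Subgroup.normalizer (Q : Set Γ))).Normal := Subgroup.normal_in_normalizer
    have hsup : IsPGroup p ↥(R ⊔ Q.subgroupOf (Subgroup.normalizer (Q : Set Γ))) :=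
      hRp.to_sup_of_normal_right (hQp.comap_subtype)
    have hS : IsPGroup p ↥((R ⊔ Q.subgroupOf (Subgroup.normalizer (Q : Set Γ))).map
        (Subgroup.normalizer (Q : Set Γ)).subtype) := hsup.map _
    have hQS : Q ≤ (R ⊔ Q.subgroupOf (Subgroup.normalizer (Q : Set Γ))).map
        (Subgroup.normalizer (Q : Set Γ)).subtype := fun q hq =>
      ⟨⟨q, Subgroup.le_normalizer hq⟩, Subgroup.mem_sup_right (Subgroup.mem_subgroupOf.2 hq), rfl⟩
    have heq : Q = (R ⊔ Q.subgroupOf (Subgroup.normalizer (Q : Set Γ))).map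
        (Subgroup.normalizer (Q : Set Γ)).subtype :=
      Subgroup.eq_of_le_of_card_ge hQS (by
        obtain ⟨i, hi⟩ := IsPGroup.iff_card.1 hS
        rw [hQc, hi]
        refine Nat.pow_le_pow_right (Fact.out : p.Prime).pos ?_
        exact ((Fact.out : p.Prime).pow_dvd_iff_le_factorization Nat.card_pos.ne').1
          (hi ▸ Subgroup.card_subgroup_dvd_card _))
    refine Subgroup.mem_subgroupOf.2 ?_
    exact heq.ge ⟨r, Subgroup.mem_sup_left hr, rfl⟩
  · exact le_centralizer_singleton.1 (sylowIn_le hQ)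

variable {M : Ideal AlgInt}

theorem defect_dichotomy (hm : 1 ≤ m) (hM : IsPModular p M) {B : Set (IrrCharacter Γ)}
    (hB : IsPBlock M B) :
    blockDefect p B = 0 ∨ blockDefect p B = (Nat.card Γ).factorization p := by
  haveI : Fintype Γ := Fintype.ofFinite _
  obtain ⟨D, hD⟩ := exists_isDefectGroup hM hB
  have hDc := card_defectGroup hM hB hD
  by_cases hD1 : D = ⊥
  · left
    rw [hD1, Subgroup.card_bot] at hDc
    by_contra h0
    exact (Nat.one_lt_pow h0 (Fact.out : p.Prime).one_lt).ne hDc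
  right
  have hDp := isPGroup_defectGroup hM hD
  obtain ⟨P, hDP⟩ := hDp.exists_le_sylow
  obtain ⟨x, hx, hxD, hPx⟩ := BlocksNormal.defectGroup_eq_inter hM hB hD P hDP
  have hxc := central_of_radical hDp hD1 (fun Q hQ hQp => by
    obtain ⟨b, hb, hbD, -⟩ := first_main_exists hM hDp hB hD
    haveI := hQ
    exact normal_le_defectGroup hM hQp hb hbD) hx (le_centralizer_singleton.1 (sylowIn_le hxD))
  have hPP : conjSub x (P : Subgroup Γ) = P := by
    ext y
    rw [mem_conjSub, ← Subgroup.mem_center_iff.1 (inv_mem hxc) y, mul_assoc, inv_mul_cancel, mul_one]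
  rw [hPP, inf_idem] at hPx
  rw [← hPx, P.card_eq_multiplicity] at hDc
  exact (Nat.pow_right_injective (Fact.out : p.Prime).two_le hDc).symm

theorem red_idem (hM : IsPModular p M) {G : Type*} [Group G] [Finite G] [Fintype G]
    {B B' : Set (IrrCharacter G)} (hB : IsPBlock M B) (hB' : IsPBlock M B') (x : G) :
    ∑ y, res M (blockCoeff B y) * res M (blockCoeff B' (y⁻¹ * x)) =
      res M (ofOmega (blockInd B * blockInd B') x) := by
  rw [ofOmega_mul, ← blockCoeff_eq_ofOmega, ← blockCoeff_eq_ofOmega, ← coeff_red (M := M),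
    red_conv hM (memR_blockCoeff hM hB) (memR_blockCoeff hM hB'), coeff_mul_eq_sum]
  simp only [coeff_red]

theorem defect_zero_unique (hM : IsPModular p M) {B B' : Set (IrrCharacter Γ)} (hB : IsPBlock M B)
    (hB0 : blockDefect p B = 0) (hB' : IsPBlock M B') (hB0' : blockDefect p B' = 0) : B = B' := by
  classical
  by_contra hne
  letI := ModRep.resField hM
  haveI := res_charP hM
  haveI : Fintype Γ := Fintype.ofFinite _
  haveI : Fintype (CellIdx F m) := Fintype.ofFinite _
  have hp := (Fact.out : p.Prime)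
  have hcls : ∀ (C : Set (IrrCharacter Γ)) (a x : Γ),
      res M (blockCoeff C (a * x * a⁻¹)) = res M (blockCoeff C x) := fun C a x => by
    rw [classFunction_eq_of_isConj (Blocks.isClassFunction_blockCoeff C)
      (isConj_iff.2 ⟨a, rfl⟩ : IsConj x (a * x * a⁻¹))]
  have hvan : ∀ {C : Set (IrrCharacter Γ)}, IsPBlock M C → blockDefect p C = 0 →
      ∀ x v : Γ, v ∈ UU F m → v ≠ 1 → v * x = x * v → res M (blockCoeff C x) = 0 := by
    intro C hC hC0 x v hv hv1 hvx
    rw [res_eq_zero_iff hM (memR_blockCoeff hM hC x)]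
    refine BlockDefect.memI_blockCoeff_of_lt hM hC (e := (Nat.card Γ).factorization p) (k := 1)
      (fun ψ hψ => ?_) ?_ (by omega)
    · rw [hp.pow_dvd_iff_le_factorization (charDegree_pos ψ).ne']
      have h1 : sInf ((fun χ : IrrCharacter Γ => (charDegree (χ : Γ → ℂ)).factorization p) '' C) ≤
          (charDegree (ψ : Γ → ℂ)).factorization p := Nat.sInf_le ⟨ψ, hψ, rfl⟩
      rw [blockDefect] at hC0
      omega
    · rw [pow_one]
      obtain ⟨i, hi⟩ := (UU_isSylow (F := F) (m := m) p).1 ⟨v, hv⟩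
      have hi' : v ^ p ^ i = 1 := by simpa using congrArg Subtype.val hi
      obtain ⟨j, -, hj⟩ := (Nat.dvd_prime_pow hp).1 (orderOf_dvd_of_pow_eq_one hi')
      have hj0 : j ≠ 0 := fun e => hv1 (orderOf_eq_one_iff.1 (by rw [hj, e, pow_zero]))
      exact (dvd_pow_self p hj0).trans (hj ▸ Subgroup.orderOf_dvd_natCard _
        (mem_centralizer_singleton.2 hvx))
  have hne0 : ∀ {C : Set (IrrCharacter Γ)}, IsPBlock M C →
      (fun x => res M (blockCoeff C x)) ≠ 0 := by
    intro C hC h
    obtain ⟨g, hg⟩ := exists_isDefectClass hM hC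
    exact hg.2.1 ((res_eq_zero_iff hM (memR_blockCoeff hM hC g)).1 (congrFun h g))
  refine false_of_bigCell (R := Res M) (p := p) (UU F m) (UU_isSylow (F := F) (m := m) p).1 mu
    rel_cell cell_inj (cellCount (m := m) F : Res M) (fun t₁ t₂ t => ?_)
    (hcls B) (hcls B') (hvan hB hB0) (hvan hB' hB0') (fun x => ?_) (fun x => ?_) (fun x => ?_)
    (hne0 hB) (hne0 hB')
  · exact (CharP.natCast_eq_natCast (Res M) p).2 (cell_count t₁ t₂ t)
  · rw [red_idem hM hB hB, blockInd_mul_self, ← blockCoeff_eq_ofOmega]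
  · rw [red_idem hM hB' hB', blockInd_mul_self, ← blockCoeff_eq_ofOmega]
  · rw [red_idem hM hB hB', show blockInd B * blockInd B' = (0 : IrrCharacter Γ → ℂ) from funext fun χ => by
      by_cases h : χ ∈ B
      · rw [Pi.mul_apply, blockInd_of_notMem fun h' => hne (isPBlock_eq_of_mem hM hB hB' h h'),
          mul_zero, Pi.zero_apply]
      · rw [Pi.mul_apply, blockInd_of_notMem h, zero_mul, Pi.zero_apply], ofOmega_zero,
      Pi.zero_apply, res_zero hM]

theorem card_defect_zero (hM : IsPModular p M) :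
    Nat.card {B : Set (IrrCharacter Γ) // IsPBlock M B ∧ blockDefect p B = 0} = 1 := by
  obtain ⟨χ, hχ, hdeg, -, -⟩ := exists_steinberg F m
  let χ' : IrrCharacter Γ := ⟨χ, hχ⟩
  have hd : charDegree (χ' : Γ → ℂ) = p ^ (Nat.card Γ).factorization p := by
    have h1 := charDegree_cast χ'
    rw [show (χ' : Γ → ℂ) 1 = χ 1 from rfl, hdeg, ← UU_eq_Upos p, card_UU (p := p)] at h1
    exact_mod_cast h1
  have hsing : blockOf M (χ' : Γ → ℂ) = {χ'} := by
    refine (singleton_iff_not_dvd hM χ').1 ?_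
    rw [hd]
    exact Nat.not_dvd_ordCompl (Fact.out : p.Prime) Nat.card_pos.ne'
  rw [Nat.card_eq_one_iff_unique]
  refine ⟨⟨fun B B' => Subtype.ext (defect_zero_unique hM B.2.1 B.2.2 B'.2.1 B'.2.2)⟩,
    ⟨⟨blockOf M (χ' : Γ → ℂ), ⟨χ', rfl⟩, ?_⟩⟩⟩
  rw [blockDefect, hsing, Set.image_singleton, csInf_singleton, hd,
    (Fact.out : p.Prime).factorization_pow, Finsupp.single_eq_same, Nat.sub_self]

end Cfsg.Agent.SLBlocks
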