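import Cfsg.Agent.Lib.SLRGD.Basic
import Mathlib.LinearAlgebra.Matrix.ToLinearEquiv
import Mathlib.FieldTheory.ChevalleyWarning

/-!
The big cell of `SL (m+1, F)` seen through the corner minors.

* `rel_cell` : elements outside the cells `U * mu d * U` have `U ∩ g U g⁻¹ ≠ 1`;
* `cell_inj` : the cells and their coset representatives are unique;
* `cell_count` : modulo `p` the structure constants of the cells do not depend on the cells.
-/

set_option autoImplicit false

namespace Cfsg.Agent.SLBlocks

open Matrix SLRGD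

variable (F : Type*) [Field F] (m : ℕ)

local notation "Γ" => Matrix.SpecialLinearGroup (Fin (m + 1)) F
local notation "Mat" => Matrix (Fin (m + 1)) (Fin (m + 1)) F

/-- The upper unitriangular subgroup. -/
abbrev UU : Subgroup Γ := unitri F m (id : Fin (m + 1) → Fin (m + 1)) Function.injective_id

variable {m}

/-- The rows of the corner. -/
def rowEmb (k : Fin m) (i : Fin (k.val + 1)) : Fin (m + 1) :=
  ⟨m - k.val + i.val, by have := i.isLt; have := k.isLt; omega⟩

/-- The columns of the corner. -/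
def colEmb (k : Fin m) (i : Fin (k.val + 1)) : Fin (m + 1) :=
  ⟨i.val, by have := i.isLt; have := k.isLt; omega⟩

theorem rowEmb_injective (k : Fin m) : Function.Injective (rowEmb k) := fun i j h => by
  have := congrArg Fin.val h
  simp only [rowEmb] at this
  exact Fin.ext (by omega)

theorem colEmb_injective (k : Fin m) : Function.Injective (colEmb k) := fun i j h => by
  have := congrArg Fin.val h
  exact Fin.ext this

theorem mem_range_rowEmb {k : Fin m} {l : Fin (m + 1)} :
    l ∈ Set.range (rowEmb k) ↔ m - k.val ≤ l.val := by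
  constructor
  · rintro ⟨i, rfl⟩; exact Nat.le_add_right _ _
  · intro h
    have := l.isLt
    exact ⟨⟨l.val - (m - k.val), by have := k.isLt; omega⟩, Fin.ext (by simp only [rowEmb]; omega)⟩

theorem mem_range_colEmb {k : Fin m} {l : Fin (m + 1)} :
    l ∈ Set.range (colEmb k) ↔ l.val ≤ k.val := by
  constructor
  · rintro ⟨i, rfl⟩; exact Nat.le_of_lt_succ i.isLt
  · intro h; exact ⟨⟨l.val, by omega⟩, Fin.ext rfl⟩

variable {F}

/-- The corner minor. -/
def corner {R : Type*} [CommRing R] (k : Fin m) (A : Matrix (Fin (m + 1)) (Fin (m + 1)) R) : R :=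
  (A.submatrix (rowEmb k) (colEmb k)).det

/-- Unitriangular matrices. -/
def IsUni (A : Mat) : Prop := (∀ i j : Fin (m + 1), j < i → A i j = 0) ∧ ∀ i, A i i = 1

theorem isUni_of_mem {u : Γ} (h : u ∈ UU F m) : IsUni (u : Mat) :=
  ⟨fun _ _ hij => h.1.1 hij, h.2⟩

theorem det_of_isUni {A : Mat} (hA : IsUni A) : A.det = 1 := by
  rw [det_of_isUpperTriangular (fun i j h => hA.1 i j h)]
  exact Finset.prod_eq_one fun i _ => hA.2 i

theorem mem_of_isUni {u : Γ} (h : IsUni (u : Mat)) : u ∈ UU F m := by
  have ht : (u : Mat).BlockTriangular (id : Fin (m + 1) → Fin (m + 1)) := fun i j hij => h.1 i j hij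
  refine ⟨⟨ht, ?_⟩, h.2⟩
  haveI := (u : Mat).invertibleOfIsUnitDet (by rw [u.2]; exact isUnit_one)
  have hinv : ((u⁻¹ : Γ) : Mat) = (u : Mat)⁻¹ := by
    refine (Matrix.inv_eq_right_inv ?_).symm
    rw [← Matrix.SpecialLinearGroup.coe_mul, mul_inv_cancel, Matrix.SpecialLinearGroup.coe_one]
  rw [hinv]
  exact blockTriangular_inv_of_blockTriangular ht

/-- An element of the unitriangular group from its matrix. -/
def mkUni {A : Mat} (h : IsUni A) : Γ := ⟨A, det_of_isUni h⟩

theorem mkUni_mem {A : Mat} (h : IsUni A) : mkUni h ∈ UU F m := mem_of_isUni h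

theorem corner_uni_mul (k : Fin m) {u : Γ} (hu : u ∈ UU F m) (A : Mat) :
    corner k ((u : Mat) * A) = corner k A := by
  have hu' := isUni_of_mem hu
  have h : ((u : Mat) * A).submatrix (rowEmb k) (colEmb k) =
      (u : Mat).submatrix (rowEmb k) (rowEmb k) * A.submatrix (rowEmb k) (colEmb k) := by
    ext i j
    rw [submatrix_apply, mul_apply, mul_apply]
    refine (Fintype.sum_of_injective _ (rowEmb_injective k) _ _ (fun l hl => ?_) fun l => rfl).symm
    rw [mem_range_rowEmb] at hl
    rw [hu'.1 _ l (Fin.lt_def.2 ?_), zero_mul]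
    simp only [rowEmb]
    omega
  rw [corner, h, det_mul, det_of_isUpperTriangular (M := (u : Mat).submatrix (rowEmb k) (rowEmb k))
    (fun i j hij => hu'.1 _ _ (Fin.lt_def.2 (by
      have h' := Fin.lt_def.1 hij
      simp only [id, rowEmb] at h' ⊢; omega)))]
  rw [show (∏ i, (u : Mat).submatrix (rowEmb k) (rowEmb k) i i) = 1 from
    Finset.prod_eq_one fun i _ => hu'.2 (rowEmb k i), one_mul]
  rfl

theorem corner_mul_uni (k : Fin m) {u : Γ} (hu : u ∈ UU F m) (A : Mat) :
    corner k (A * (u : Mat)) = corner k A := by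
  have hu' := isUni_of_mem hu
  have h : (A * (u : Mat)).submatrix (rowEmb k) (colEmb k) =
      A.submatrix (rowEmb k) (colEmb k) * (u : Mat).submatrix (colEmb k) (colEmb k) := by
    ext i j
    rw [submatrix_apply, mul_apply, mul_apply]
    refine (Fintype.sum_of_injective _ (colEmb_injective k) _ _ (fun l hl => ?_) fun l => rfl).symm
    rw [mem_range_colEmb] at hl
    rw [hu'.1 l _ (Fin.lt_def.2 ?_), mul_zero]
    have := j.isLt
    simp only [colEmb]
    omega
  rw [corner, h, det_mul, det_of_isUpperTriangular (M := (u : Mat).submatrix (colEmb k) (colEmb k))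
    (fun i j hij => hu'.1 _ _ (Fin.lt_def.2 (by
      have h' := Fin.lt_def.1 hij
      simp only [id, colEmb] at h' ⊢; omega)))]
  rw [show (∏ i, (u : Mat).submatrix (colEmb k) (colEmb k) i i) = 1 from
    Finset.prod_eq_one fun i _ => hu'.2 (colEmb k i), mul_one]
  rfl

/-- The antidiagonal matrix with given column entries. -/
def aMat (d : Fin (m + 1) → F) : Mat := fun i j => if j = i.rev then d j else 0

theorem aMat_mul_apply (d : Fin (m + 1) → F) (A : Mat) (i j : Fin (m + 1)) :
    (aMat d * A) i j = d i.rev * A i.rev j := by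
  rw [mul_apply, Finset.sum_eq_single i.rev]
  · simp [aMat]
  · intro l _ hl; simp [aMat, hl]
  · simp

theorem mul_aMat_apply (d : Fin (m + 1) → F) (A : Mat) (i j : Fin (m + 1)) :
    (A * aMat d) i j = A i j.rev * d j := by
  rw [mul_apply, Finset.sum_eq_single j.rev]
  · simp [aMat]
  · intro l _ hl
    have : j ≠ l.rev := fun e => hl (by rw [e, Fin.rev_rev])
    simp [aMat, this]
  · simp

theorem aMat_inv (d : Fin (m + 1) → F) (hd : ∀ j, d j ≠ 0) :
    aMat d * aMat (fun j => (d j.rev)⁻¹) = 1 := by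
  ext i j
  rw [aMat_mul_apply, one_apply]
  by_cases h : i = j
  · subst h; simp [aMat, hd]
  · simp [aMat, h, Ne.symm h]

variable (F m) in
/-- The parameters of the cells. -/
abbrev CellIdx : Type _ := {d : Fin (m + 1) → F // (aMat d).det = 1}

theorem cellIdx_ne_zero (d : CellIdx F m) (j : Fin (m + 1)) : d.1 j ≠ 0 := by
  intro h
  have h1 : (aMat d.1).det = 0 := det_eq_zero_of_column_eq_zero j fun i => by
    simp only [aMat]; split <;> simp [h]
  exact one_ne_zero (d.2.symm.trans h1)

/-- The cell representatives. -/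
def mu (d : CellIdx F m) : Γ := ⟨aMat d.1, d.2⟩

theorem coe_inv_mu (d : CellIdx F m) :
    (((mu d)⁻¹ : Γ) : Mat) = aMat (fun j => (d.1 j.rev)⁻¹) := by
  have h : ((mu d)⁻¹ : Γ).1 = (mu d : Γ).1⁻¹ := by
    refine (Matrix.inv_eq_right_inv ?_).symm
    rw [← Matrix.SpecialLinearGroup.coe_mul, mul_inv_cancel, Matrix.SpecialLinearGroup.coe_one]
  rw [h]
  exact Matrix.inv_eq_right_inv (aMat_inv _ (cellIdx_ne_zero d))

theorem corner_aMat (k : Fin m) (d : Fin (m + 1) → F) :
    corner k (aMat d) = corner k (aMat fun _ => (1 : F)) * ∏ i, d (colEmb k i) := by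
  have h : (aMat d).submatrix (rowEmb k) (colEmb k) =
      (aMat fun _ => (1 : F)).submatrix (rowEmb k) (colEmb k) * diagonal (fun i => d (colEmb k i)) := by
    ext i j
    rw [mul_diagonal]
    simp only [submatrix_apply, aMat]
    split <;> simp
  rw [corner, h, det_mul, det_diagonal]
  rfl

theorem corner_one_ne_zero (k : Fin m) : corner k (aMat fun _ => (1 : F)) ≠ 0 := by
  have h : (aMat fun _ => (1 : F)).submatrix (rowEmb k) (colEmb k) *
      (aMat fun _ => (1 : F)).submatrix (rowEmb k) (colEmb k) = 1 := by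
    have hrev : ∀ i j : Fin (k.val + 1), colEmb k j = (rowEmb k i).rev ↔ j = i.rev := by
      intro i j
      have := i.isLt
      have := j.isLt
      have := k.isLt
      simp only [Fin.ext_iff, Fin.val_rev, rowEmb, colEmb]
      omega
    ext i j
    rw [mul_apply, Finset.sum_eq_single i.rev]
    · simp only [submatrix_apply, aMat, hrev, one_apply, if_true, one_mul, Fin.rev_rev, eq_comm]
    · intro l _ hl
      simp [aMat, hrev, hl]
    · simp
  intro h0
  have := congrArg Matrix.det h
  rw [det_mul, show det _ = (0 : F) from h0, zero_mul, det_one] at this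
  exact zero_ne_one this

theorem corner_mu_ne_zero (d : CellIdx F m) (k : Fin m) : corner k (mu d : Mat) ≠ 0 := by
  show corner k (aMat d.1) ≠ 0
  rw [corner_aMat]
  exact mul_ne_zero (corner_one_ne_zero k) (Finset.prod_ne_zero_iff.2 fun i _ => cellIdx_ne_zero d _)

theorem eq_of_corner (d d' : CellIdx F m) (h : ∀ k, corner k (mu d : Mat) = corner k (mu d' : Mat)) :
    d = d' := by
  have hk : ∀ k : Fin m, ∏ i, d.1 (colEmb k i) = ∏ i, d'.1 (colEmb k i) := by
    intro k
    have h1 : corner k (aMat d.1) = corner k (aMat d'.1) := h k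
    rw [corner_aMat k d.1, corner_aMat k d'.1] at h1
    exact mul_left_cancel₀ (corner_one_ne_zero k) h1
  have hlt : ∀ n : ℕ, ∀ j : Fin (m + 1), j.val = n → j.val < m → d.1 j = d'.1 j := by
    intro n
    induction n using Nat.strong_induction_on with
    | _ n IH =>
    intro j hj hjm
    have h1 := hk ⟨j.val, hjm⟩
    rw [Fin.prod_univ_castSucc, Fin.prod_univ_castSucc] at h1
    have h2 : colEmb ⟨j.val, hjm⟩ (Fin.last _) = j := Fin.ext rfl
    rw [h2, Finset.prod_congr rfl fun i _ => IH i.val (hj ▸ i.isLt)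
      (colEmb ⟨j.val, hjm⟩ i.castSucc) rfl (lt_trans i.isLt hjm)] at h1
    exact mul_left_cancel₀ (Finset.prod_ne_zero_iff.2 fun i _ => cellIdx_ne_zero d' _) h1
  have hlast : d.1 (Fin.last m) = d'.1 (Fin.last m) := by
    have hdet : ∀ e : Fin (m + 1) → F,
        (aMat e).det = (aMat (fun _ => 1 : Fin (m + 1) → F)).det * ∏ i, e i := by
      intro e
      rw [show aMat e = (aMat fun _ => (1 : F)) * diagonal e from by
        ext i j; rw [mul_diagonal]; simp only [aMat]; split <;> simp, det_mul, det_diagonal]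
    have h1 : (aMat d.1).det = (aMat d'.1).det := d.2.trans d'.2.symm
    rw [hdet d.1, hdet d'.1, Fin.prod_univ_castSucc, Fin.prod_univ_castSucc,
      Finset.prod_congr rfl fun i _ => hlt _ (Fin.castSucc i) rfl i.isLt] at h1
    have h0 : (aMat (fun _ => 1 : Fin (m + 1) → F)).det ≠ 0 := fun e => by
      have := d.2; rw [hdet, e, zero_mul] at this; exact zero_ne_one this
    exact mul_left_cancel₀ (Finset.prod_ne_zero_iff.2 fun i _ => cellIdx_ne_zero d' _)
      (mul_left_cancel₀ h0 h1)
  refine Subtype.ext (funext fun j => ?_)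
  by_cases hj : j.val < m
  · exact hlt _ j rfl hj
  · rw [show j = Fin.last m from Fin.ext (by have := j.isLt; simp; omega)]; exact hlast

theorem corner_cell (k : Fin m) (d : CellIdx F m) {a b : Γ} (ha : a ∈ UU F m) (hb : b ∈ UU F m) :
    corner k ((a * mu d * b : Γ) : Mat) = corner k (mu d : Mat) := by
  rw [Matrix.SpecialLinearGroup.coe_mul, Matrix.SpecialLinearGroup.coe_mul, corner_mul_uni k hb,
    corner_uni_mul k ha]

theorem cell_inj (d d' : CellIdx F m) (u : Γ) (hu : u ∈ UU F m) (u' : Γ) (hu' : u' ∈ UU F m)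
    (w : Γ) (hw : w ∈ UU F m) (h : u * mu d * w = u' * mu d') : u = u' ∧ d = d' := by
  have hd : d = d' := eq_of_corner d d' fun k => by
    rw [← corner_cell k d hu hw, ← corner_cell k d' hu' (one_mem _), mul_one, h]
  subst hd
  refine ⟨?_, rfl⟩
  set x := u'⁻¹ * u with hx
  have hxU : x ∈ UU F m := mul_mem (inv_mem hu') hu
  have hxe : x * mu d = mu d * w⁻¹ := by
    rw [hx, mul_assoc, inv_mul_eq_iff_eq_mul, ← mul_assoc u', eq_mul_inv_iff_mul_eq, h]
  have hx1 : x = 1 := by
    refine Subtype.ext ?_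
    have hm : (x : Mat) * aMat d.1 = aMat d.1 * (w⁻¹ : Γ).1 := congrArg Subtype.val hxe
    rw [Matrix.SpecialLinearGroup.coe_one]
    ext i l
    rcases lt_trichotomy i l with hil | rfl | hil
    · rw [one_apply_ne hil.ne]
      have h1 := congrFun (congrFun hm i) l.rev
      rw [mul_aMat_apply, aMat_mul_apply, Fin.rev_rev,
        (isUni_of_mem (inv_mem hw)).1 _ _ (Fin.rev_lt_rev.2 hil), mul_zero] at h1
      exact (mul_eq_zero.1 h1).resolve_right (cellIdx_ne_zero d _)
    · rw [one_apply_eq]; exact (isUni_of_mem hxU).2 i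
    · rw [one_apply_ne hil.ne']; exact (isUni_of_mem hxU).1 i l hil
  rw [hx, inv_mul_eq_one] at hx1
  exact hx1.symm

/-- Elements with non-zero corner minors lie in a cell. -/
theorem exists_cell (g : Γ) (hg : ∀ k, corner k (g : Mat) ≠ 0) :
    ∃ d, ∃ a ∈ UU F m, ∃ b ∈ UU F m, g = a * mu d * b := by
  classical
  have hrow : ∀ j : Fin (m + 1), ∃ x : Fin (m + 1) → F, x j = 1 ∧ (∀ l, l < j → x l = 0) ∧
      ∀ s, s < j.rev → (x ᵥ* (g : Mat)) s = 0 := by
    intro j
    by_cases hj : j.val < m
    swap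
    · refine ⟨Pi.single j 1, Pi.single_eq_same j 1, fun l hl => Pi.single_eq_of_ne hl.ne _, fun s hs => ?_⟩
      have := Fin.lt_def.1 hs
      rw [Fin.val_rev] at this
      omega
    set k : Fin m := ⟨m - 1 - j.val, by omega⟩ with hk
    set A := (g : Mat).submatrix (rowEmb k) (colEmb k) with hA
    obtain ⟨c, hc⟩ : ∃ c, c ᵥ* A = fun i => -((g : Mat) j (colEmb k i)) := by
      refine ⟨(fun i => -((g : Mat) j (colEmb k i))) ᵥ* A⁻¹, ?_⟩
      rw [vecMul_vecMul, nonsing_inv_mul A (isUnit_iff_ne_zero.2 (hg k)), vecMul_one]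
    refine ⟨Pi.single j 1 + Function.extend (rowEmb k) c 0, ?_, fun l hl => ?_, fun s hs => ?_⟩
    · rw [Pi.add_apply, Pi.single_eq_same, Function.extend_apply', Pi.zero_apply, add_zero]
      rintro ⟨i, hi⟩
      have := congrArg Fin.val hi
      simp only [rowEmb, hk] at this
      omega
    · rw [Pi.add_apply, Pi.single_eq_of_ne hl.ne, Function.extend_apply', Pi.zero_apply, add_zero]
      rintro ⟨i, hi⟩
      have := congrArg Fin.val hi
      have := Fin.lt_def.1 hl
      simp only [rowEmb, hk] at *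
      omega
    · have hs' : s.val ≤ k.val := by
        have := Fin.lt_def.1 hs
        rw [Fin.val_rev] at this
        simp only [hk]; omega
      obtain ⟨s', rfl⟩ := mem_range_colEmb.2 hs'
      rw [add_vecMul, Pi.add_apply, single_one_vecMul]
      have h1 := congrFun hc s'
      have h2 : (Function.extend (rowEmb k) c 0 ᵥ* (g : Mat)) (colEmb k s') = (c ᵥ* A) s' := by
        simp only [vecMul, dotProduct]
        refine (Fintype.sum_of_injective _ (rowEmb_injective k) _ _ (fun l hl => ?_) fun l => ?_).symm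
        · rw [Function.extend_apply' _ _ _ (fun h => hl h), Pi.zero_apply, zero_mul]
        · rw [(rowEmb_injective k).extend_apply]; rfl
      rw [h2, h1]
      exact add_neg_cancel _
  choose x hx1 hx2 hx3 using hrow
  have hX : IsUni (fun i j => x i j : Mat) := ⟨fun i j hij => hx2 i j hij, fun i => hx1 i⟩
  set a := mkUni hX with ha
  set h := a * g with hh
  have hh0 : ∀ i s, s < i.rev → (h : Mat) i s = 0 := fun i s hs => by
    rw [hh, Matrix.SpecialLinearGroup.coe_mul, mul_apply]
    exact hx3 i s hs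
  set d : Fin (m + 1) → F := fun j => (h : Mat) j.rev j with hd
  have hd0 : ∀ j, d j ≠ 0 := by
    have ht : ((h : Mat).submatrix Fin.revPerm id).IsUpperTriangular := fun i j hij => by
      rw [submatrix_apply]
      exact hh0 _ _ (by rw [Fin.revPerm_apply, Fin.rev_rev]; exact hij)
    have h1 := det_of_isUpperTriangular ht
    rw [det_permute, h.2] at h1
    intro j hj
    rw [Finset.prod_eq_zero (Finset.mem_univ j) (by simpa [hd] using hj)] at h1
    rcases Int.units_eq_one_or (Equiv.Perm.sign (Fin.revPerm : Equiv.Perm (Fin (m + 1)))) with e | e <;>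
      simp [e] at h1
  set B : Mat := fun l j => (h : Mat) l.rev j / d l with hB
  have hBu : IsUni B := ⟨fun l j hlj => by
    rw [hB]
    show (h : Mat) l.rev j / d l = 0
    rw [hh0 _ _ (by rw [Fin.rev_rev]; exact hlj), zero_div],
    fun l => div_self (hd0 l)⟩
  have hprod : aMat d * B = (h : Mat) := by
    ext i j
    rw [aMat_mul_apply, hB]
    show d i.rev * ((h : Mat) i.rev.rev j / d i.rev) = _
    rw [Fin.rev_rev, mul_div_cancel₀ _ (hd0 _)]
  have hdet : (aMat d).det = 1 := by
    have h1 := congrArg Matrix.det hprod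
    rwa [det_mul, det_of_isUni hBu, mul_one, h.2] at h1
  refine ⟨⟨d, hdet⟩, a⁻¹, inv_mem (mkUni_mem hX), mkUni hBu, mkUni_mem hBu, ?_⟩
  have h2 : mu ⟨d, hdet⟩ * mkUni hBu = h := Subtype.ext hprod
  rw [mul_assoc, h2, hh, inv_mul_cancel_left]

/-- Outside the cells the unitriangular group meets its conjugate. -/
theorem rel_cell (g : Γ) (hg : ∀ d, ∀ a ∈ UU F m, ∀ b ∈ UU F m, g ≠ a * mu d * b) :
    ∃ v ∈ UU F m, v ≠ 1 ∧ g⁻¹ * v * g ∈ UU F m := by
  classical
  obtain ⟨k, hk⟩ : ∃ k, corner k (g : Mat) = 0 := by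
    by_contra hcon
    push Not at hcon
    obtain ⟨d, a, ha, b, hb, h⟩ := exists_cell g hcon
    exact hg d a ha b hb h
  set A := (g : Mat).submatrix (rowEmb k) (colEmb k)
  obtain ⟨c, hc0, hc⟩ := exists_mulVec_eq_zero_iff.2 (show A.det = 0 from hk)
  obtain ⟨φ, hφ0, hφ⟩ := exists_vecMul_eq_zero_iff.2 (show A.det = 0 from hk)
  set cc := Function.extend (colEmb k) c 0 with hcc
  set w := (g : Mat) *ᵥ cc with hw
  set ff := Function.extend (rowEmb k) φ 0 with hff
  have hw0 : ∀ i : Fin (m + 1), m - k.val ≤ i.val → w i = 0 := by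
    intro i hi
    obtain ⟨i', rfl⟩ := mem_range_rowEmb.2 hi
    have h1 : (A *ᵥ c) i' = 0 := congrFun hc i'
    rw [← h1]
    simp only [hw, mulVec, dotProduct]
    refine (Fintype.sum_of_injective _ (colEmb_injective k) _ _ (fun l hl => ?_) fun l => ?_).symm
    · rw [hcc, Function.extend_apply' _ _ _ (fun h => hl h), Pi.zero_apply, mul_zero]
    · rw [hcc, (colEmb_injective k).extend_apply]; rfl
  have hf0 : ∀ i : Fin (m + 1), i.val < m - k.val → ff i = 0 := by
    intro i hi
    rw [hff, Function.extend_apply', Pi.zero_apply]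
    exact fun h => absurd (mem_range_rowEmb.1 h) (by omega)
  have hcc0 : ∀ i : Fin (m + 1), k.val < i.val → cc i = 0 := by
    intro i hi
    rw [hcc, Function.extend_apply', Pi.zero_apply]
    exact fun h => absurd (mem_range_colEmb.1 h) (by omega)
  set ψ := ff ᵥ* (g : Mat) with hψ
  have hψ0 : ∀ j : Fin (m + 1), j.val ≤ k.val → ψ j = 0 := by
    intro j hj
    obtain ⟨j', rfl⟩ := mem_range_colEmb.2 hj
    have h1 : (φ ᵥ* A) j' = 0 := congrFun hφ j'
    rw [← h1]
    simp only [hψ, vecMul, dotProduct]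
    refine (Fintype.sum_of_injective _ (rowEmb_injective k) _ _ (fun l hl => ?_) fun l => ?_).symm
    · rw [hff, Function.extend_apply' _ _ _ (fun h => hl h), Pi.zero_apply, zero_mul]
    · rw [hff, (rowEmb_injective k).extend_apply]; rfl
  have hone : ∀ (x y : Fin (m + 1) → F), (∀ i j : Fin (m + 1), j ≤ i → x i * y j = 0) →
      IsUni (1 + vecMulVec x y : Mat) := by
    intro x y hxy
    refine ⟨fun i j hij => ?_, fun i => ?_⟩
    · rw [Matrix.add_apply, one_apply_ne hij.ne', vecMulVec_apply, hxy i j hij.le, add_zero]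
    · rw [Matrix.add_apply, one_apply_eq, vecMulVec_apply, hxy i i le_rfl, add_zero]
  have hV : IsUni (1 + vecMulVec w ff : Mat) := hone _ _ fun i j hij => by
    rcases lt_or_ge i.val (m - k.val) with h | h
    · rw [hf0 j (lt_of_le_of_lt (Fin.le_def.1 hij) h), mul_zero]
    · rw [hw0 i h, zero_mul]
  have hV' : IsUni (1 + vecMulVec cc ψ : Mat) := hone _ _ fun i j hij => by
    rcases le_or_gt j.val k.val with h | h
    · rw [hψ0 j h, mul_zero]
    · rw [hcc0 i (lt_of_lt_of_le h (Fin.le_def.1 hij)), zero_mul]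
  refine ⟨mkUni hV, mkUni_mem hV, ?_, ?_⟩
  · intro h1
    have h2 : (1 + vecMulVec w ff : Mat) = 1 := congrArg Subtype.val h1
    rw [add_eq_left] at h2
    have hwne : w ≠ 0 := by
      intro h3
      refine hc0 (funext fun i => ?_)
      have h4 : cc = 0 := eq_zero_of_mulVec_eq_zero (by rw [g.2]; exact one_ne_zero) h3
      have h5 := congrFun h4 (colEmb k i)
      rwa [hcc, (colEmb_injective k).extend_apply] at h5
    obtain ⟨i, hi⟩ := Function.ne_iff.1 hwne
    obtain ⟨j, hj⟩ := Function.ne_iff.1 hφ0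
    have h6 := congrFun (congrFun h2 i) (rowEmb k j)
    rw [vecMulVec_apply, hff, (rowEmb_injective k).extend_apply] at h6
    exact mul_ne_zero hi hj h6
  · have h : g * mkUni hV' = mkUni hV * g := by
      refine Subtype.ext ?_
      show (g : Mat) * (1 + vecMulVec cc ψ) = (1 + vecMulVec w ff) * (g : Mat)
      rw [mul_add, add_mul, mul_one, one_mul, mul_vecMulVec, vecMulVec_mul]
    rw [mul_assoc, ← h, inv_mul_cancel_left]
    exact mkUni_mem hV'

section Count

open MvPolynomial

variable (m) in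
/-- The free entries below the diagonal. -/
abbrev Below : Type := {x : Fin (m + 1) × Fin (m + 1) // x.2 < x.1}

/-- A lower unitriangular matrix from its free entries. -/
def lowMat {R : Type*} [Zero R] [One R] (z : Below m → R) : Matrix (Fin (m + 1)) (Fin (m + 1)) R :=
  fun i j => if h : j < i then z ⟨(i, j), h⟩ else if i = j then 1 else 0

variable (F) in
/-- The corner minors as polynomials. -/
noncomputable def cornerPoly (k : Fin m) : MvPolynomial (Below m) F :=
  corner k (lowMat fun s => MvPolynomial.X s)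

theorem eval_cornerPoly (k : Fin m) (z : Below m → F) :
    MvPolynomial.eval z (cornerPoly F k) = corner k (lowMat z) := by
  rw [cornerPoly, corner, RingHom.map_det]
  congr 1
  ext i j
  simp only [RingHom.mapMatrix_apply, Matrix.map_apply, submatrix_apply, lowMat]
  split_ifs <;> simp

theorem totalDegree_cornerPoly (k : Fin m) : (cornerPoly F k).totalDegree ≤ k.val + 1 := by
  rw [cornerPoly, corner, det_apply]
  refine totalDegree_finsetSum_le fun σ _ => ?_
  rcases Int.units_eq_one_or (Equiv.Perm.sign σ) with h | h <;>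
    rw [h] <;>
    simp only [one_smul, Units.neg_smul, totalDegree_neg] <;>
    refine (totalDegree_finsetProd _ _).trans (le_trans (Finset.sum_le_sum fun i _ => ?_)
      (le_of_eq (by simp : ∑ _i : Fin (k.val + 1), (1 : ℕ) = k.val + 1))) <;>
    simp only [submatrix_apply, lowMat] <;> split_ifs <;> simp

variable [Fintype F]

theorem diff_prod_degree {σ ι : Type*} [DecidableEq ι] (s : Finset ι) (f f' : ι → MvPolynomial σ F)
    (b : ι → ℕ) (h : ∀ i, (f i).totalDegree ≤ b i) (h' : ∀ i, (f' i).totalDegree ≤ b i)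
    (hd : ∀ i, (f i - f' i).totalDegree < b i) :
    ∏ i ∈ s, f i - ∏ i ∈ s, f' i = 0 ∨
      (∏ i ∈ s, f i - ∏ i ∈ s, f' i).totalDegree < ∑ i ∈ s, b i := by
  induction s using Finset.induction_on with
  | empty => left; simp
  | insert a s has ih =>
    right
    rw [Finset.prod_insert has, Finset.prod_insert has, Finset.sum_insert has,
      show f a * ∏ i ∈ s, f i - f' a * ∏ i ∈ s, f' i =
        (f a - f' a) * ∏ i ∈ s, f i + f' a * (∏ i ∈ s, f i - ∏ i ∈ s, f' i) by ring]
    refine lt_of_le_of_lt (totalDegree_add _ _) (max_lt ?_ ?_)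
    · exact lt_of_le_of_lt (totalDegree_mul _ _) (add_lt_add_of_lt_of_le (hd a)
        ((totalDegree_finsetProd _ _).trans (Finset.sum_le_sum fun i _ => h i)))
    · rcases ih with h0 | h0
      · rw [h0, mul_zero, totalDegree_zero]
        have := hd a
        omega
      · exact lt_of_le_of_lt (totalDegree_mul _ _) (add_lt_add_of_le_of_lt (h' a) h0)

theorem card_below : Fintype.card (Below m) = ∑ k : Fin m, (k.val + 1) := by
  classical
  rw [Fintype.card_congr ((Equiv.subtypeProdEquivSigmaSubtype fun i j : Fin (m + 1) => j < i)),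
    Fintype.card_sigma]
  have h : ∀ i : Fin (m + 1), Fintype.card {j : Fin (m + 1) // j < i} = i.val := fun i => by
    rw [Fintype.card_subtype, ← Fin.card_Iio]
    exact congrArg Finset.card (by ext; simp)
  rw [Finset.sum_congr rfl fun i _ => h i, Fin.sum_univ_succ]
  simp

variable {p : ℕ} [Fact p.Prime] [CharP F p]

/-- The number of lower unitriangular matrices with given non-zero corner minors, modulo `p`. -/
theorem count_modEq (τ τ' : Fin m → F) :
    Nat.card {z : Below m → F // ∀ k, corner k (lowMat z) = τ k} ≡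
      Nat.card {z : Below m → F // ∀ k, corner k (lowMat z) = τ' k} [MOD p] := by
  classical
  set N := Fintype.card F - 1 with hN
  have hN0 : 0 < N := by have := Fintype.one_lt_card (α := F); omega
  let ind : (Fin m → F) → MvPolynomial (Below m) F := fun τ =>
    ∏ k, (1 - (cornerPoly F k - MvPolynomial.C (τ k)) ^ N)
  have hind : ∀ τ : Fin m → F, ∑ z, MvPolynomial.eval z (ind τ) =
      (Nat.card {z : Below m → F // ∀ k, corner k (lowMat z) = τ k} : F) := by
    intro τ
    rw [Nat.card_eq_fintype_card, Fintype.card_subtype, ← Finset.sum_boole]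
    refine Finset.sum_congr rfl fun z _ => ?_
    simp only [ind, map_prod, map_sub, map_one, map_pow, eval_cornerPoly, eval_C]
    split_ifs with h
    · exact Finset.prod_eq_one fun k _ => by rw [h k, sub_self, zero_pow hN0.ne', sub_zero]
    · obtain ⟨k, hk⟩ := not_forall.1 h
      exact Finset.prod_eq_zero (Finset.mem_univ k)
        (by rw [hN, FiniteField.pow_card_sub_one_eq_one _ (sub_ne_zero.2 hk), sub_self])
  have hsub : ∑ z, MvPolynomial.eval z (ind τ) = ∑ z, MvPolynomial.eval z (ind τ') := by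
    rw [← sub_eq_zero, ← Finset.sum_sub_distrib]
    simp only [← map_sub]
    have hb : ∀ (τ : Fin m → F) (k : Fin m),
        (1 - (cornerPoly F k - MvPolynomial.C (τ k)) ^ N).totalDegree ≤ N * (k.val + 1) := by
      intro τ k
      refine (totalDegree_sub _ _).trans (max_le (by rw [totalDegree_one]; exact Nat.zero_le _) ?_)
      refine (totalDegree_pow _ _).trans (Nat.mul_le_mul_left N ((totalDegree_sub _ _).trans ?_))
      exact max_le (totalDegree_cornerPoly k) (by rw [totalDegree_C]; exact Nat.zero_le _)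
    have hlt : ∀ k : Fin m, ((1 - (cornerPoly F k - MvPolynomial.C (τ k)) ^ N) -
        (1 - (cornerPoly F k - MvPolynomial.C (τ' k)) ^ N)).totalDegree < N * (k.val + 1) := fun k => by
      rw [sub_sub_sub_cancel_left, ← geom_sum₂_mul, sub_sub_sub_cancel_left, ← map_sub]
      refine lt_of_le_of_lt (totalDegree_mul _ _) ?_
      rw [totalDegree_C, add_zero]
      refine lt_of_le_of_lt (b := (N - 1) * (k.val + 1)) (totalDegree_finsetSum_le fun i hi => ?_) ?_
      · rw [Finset.mem_range] at hi
        refine (totalDegree_mul _ _).trans ?_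
        have hA : ∀ t : F, (cornerPoly F k - MvPolynomial.C t).totalDegree ≤ k.val + 1 := fun t =>
          (totalDegree_sub _ _).trans (max_le (totalDegree_cornerPoly k)
            (by rw [totalDegree_C]; exact Nat.zero_le _))
        refine le_trans (add_le_add ((totalDegree_pow _ _).trans (Nat.mul_le_mul_left i (hA _)))
          ((totalDegree_pow _ _).trans (Nat.mul_le_mul_left _ (hA _)))) ?_
        rw [← add_mul]
        exact Nat.mul_le_mul_right _ (by omega)
      · exact Nat.mul_lt_mul_of_pos_right (Nat.sub_lt hN0 one_pos) (Nat.succ_pos _)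
    rcases diff_prod_degree Finset.univ
      (fun k => 1 - (cornerPoly F k - MvPolynomial.C (τ k)) ^ N)
      (fun k => 1 - (cornerPoly F k - MvPolynomial.C (τ' k)) ^ N)
      (fun k : Fin m => N * (k.val + 1)) (hb τ) (hb τ') hlt with h0 | h0
    · exact Finset.sum_eq_zero fun z _ => by simp only [ind, h0, map_zero]
    · refine MvPolynomial.sum_eval_eq_zero _ ?_
      rw [card_below, Finset.mul_sum]
      exact h0
  rw [hind, hind] at hsub
  exact (CharP.natCast_eq_natCast F p).1 hsub

variable (F) in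
/-- The structure constant of the cells. -/
noncomputable def cellCount : ℕ :=
  Nat.card {z : Below m → F // ∀ k, corner k (lowMat z) = (1 : F)}

open scoped Classical in
theorem cell_count (d₁ d₂ d : CellIdx F m) :
    Nat.card {u : UU F m // ∃ a ∈ UU F m, ∃ b ∈ UU F m,
      (mu d₁)⁻¹ * (u : Γ)⁻¹ * mu d = a * mu d₂ * b} ≡ cellCount (m := m) F [MOD p] := by
  set τ : Fin m → F := fun k => corner k (mu d₂ : Mat) *
    (∏ i, d₁.1 (rowEmb k i)) / ∏ i, d.1 (colEmb k i) with hτ
  refine Nat.ModEq.trans ?_ (count_modEq τ _)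
  refine (congrArg (fun x => x % p) ?_ : _ ≡ _ [MOD p])
  -- entries of `u⁻¹`, turned around
  let toZ : UU F m → Below m → F := fun u s => ((u⁻¹ : UU F m) : Γ).1 s.1.1.rev s.1.2.rev
  have hlow : ∀ u : UU F m, ∀ i j, lowMat (toZ u) i j = ((u⁻¹ : UU F m) : Γ).1 i.rev j.rev := by
    intro u i j
    simp only [lowMat, toZ]
    split_ifs with h h'
    · rfl
    · rw [h', (isUni_of_mem (u⁻¹).2).2]
    · rw [(isUni_of_mem (u⁻¹).2).1 _ _ (Fin.rev_lt_rev.2 (lt_of_le_of_ne (not_lt.1 h) h'))]
  have hbij : Function.Bijective toZ := by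
    refine ⟨fun u v huv => ?_, fun z => ?_⟩
    · have h1 : (u⁻¹ : UU F m) = v⁻¹ := by
        refine Subtype.ext (Subtype.ext ?_)
        ext i j
        have := hlow u i.rev j.rev
        rw [huv, hlow v, Fin.rev_rev, Fin.rev_rev] at this
        exact this.symm
      exact inv_injective h1
    · have hZ : IsUni (fun i j => lowMat z i.rev j.rev : Mat) := by
        refine ⟨fun i j hij => ?_, fun i => ?_⟩
        · show lowMat z i.rev j.rev = 0
          rw [lowMat, dif_neg (not_lt.2 (Fin.rev_le_rev.2 hij.le)),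
            if_neg (fun e => hij.ne' (Fin.rev_injective e))]
        · show lowMat z i.rev i.rev = 1
          rw [lowMat, dif_neg (lt_irrefl _), if_pos rfl]
      refine ⟨(⟨mkUni hZ, mkUni_mem hZ⟩ : UU F m)⁻¹, funext fun s => ?_⟩
      show (((⟨mkUni hZ, mkUni_mem hZ⟩ : UU F m)⁻¹⁻¹ : UU F m) : Γ).1 s.1.1.rev s.1.2.rev = z s
      rw [inv_inv]
      show lowMat z s.1.1.rev.rev s.1.2.rev.rev = z s
      rw [Fin.rev_rev, Fin.rev_rev, lowMat, dif_pos s.2]
  refine Nat.card_congr ((Equiv.ofBijective toZ hbij).subtypeEquiv fun u => ?_)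
  have hcor : ∀ k, corner k (((mu d₁)⁻¹ * (u : Γ)⁻¹ * mu d : Γ) : Mat) =
      corner k (lowMat (toZ u)) * (∏ i, d.1 (colEmb k i)) / ∏ i, d₁.1 (rowEmb k i) := by
    intro k
    have hX : (((mu d₁)⁻¹ * (u : Γ)⁻¹ * mu d : Γ) : Mat).submatrix (rowEmb k) (colEmb k) =
        diagonal (fun i => (d₁.1 (rowEmb k i))⁻¹) * (lowMat (toZ u)).submatrix (rowEmb k) (colEmb k) *
          diagonal (fun i => d.1 (colEmb k i)) := by
      ext i j
      rw [mul_diagonal, diagonal_mul]
      simp only [submatrix_apply]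
      rw [Matrix.SpecialLinearGroup.coe_mul, Matrix.SpecialLinearGroup.coe_mul, coe_inv_mu, hlow u,
        show ((mu d : Γ) : Mat) = aMat d.1 from rfl, mul_aMat_apply, aMat_mul_apply, Fin.rev_rev]
      rfl
    rw [corner, hX, det_mul, det_mul, det_diagonal, det_diagonal, Finset.prod_inv_distrib, corner]
    ring
  show (∃ a ∈ UU F m, ∃ b ∈ UU F m, (mu d₁)⁻¹ * (u : Γ)⁻¹ * mu d = a * mu d₂ * b) ↔
    ∀ k, corner k (lowMat (toZ u)) = τ k
  have hne : ∀ k : Fin m, (∏ i, d.1 (colEmb k i)) ≠ 0 ∧ (∏ i, d₁.1 (rowEmb k i)) ≠ 0 := fun k =>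
    ⟨Finset.prod_ne_zero_iff.2 fun i _ => cellIdx_ne_zero d _,
      Finset.prod_ne_zero_iff.2 fun i _ => cellIdx_ne_zero d₁ _⟩
  constructor
  · rintro ⟨a, ha, b, hb, hab⟩ k
    have h1 := hcor k
    rw [hab, corner_cell k d₂ ha hb, eq_div_iff (hne k).2] at h1
    rw [hτ]
    show _ = _ / _
    rw [eq_div_iff (hne k).1, h1]
  · intro hall
    have hx : ∀ k, corner k (((mu d₁)⁻¹ * (u : Γ)⁻¹ * mu d : Γ) : Mat) = corner k (mu d₂ : Mat) := by
      intro k
      rw [hcor k, hall k, hτ]
      show _ / _ * _ / _ = _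
      rw [div_mul_cancel₀ _ (hne k).1, mul_div_assoc, div_self (hne k).2, mul_one]
    obtain ⟨e, a, ha, b, hb, hab⟩ := exists_cell _ fun k => (hx k).trans_ne (corner_mu_ne_zero d₂ k)
    have he : e = d₂ := eq_of_corner e d₂ fun k => by rw [← corner_cell k e ha hb, ← hab, hx k]
    exact ⟨a, ha, b, hb, he ▸ hab⟩

end Count

end Cfsg.Agent.SLBlocks
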